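import Groth.Agent.DerLib.KInjEnough
import Mathlib.Algebra.Homology.HomotopyCategory.Acyclic

/-!
# Unbounded derived functors computed on complexes of acyclic objects
-/

set_option autoImplicit false
set_option linter.all false
set_option backward.isDefEq.respectTransparency false
set_option backward.isDefEq.respectTransparency.types false

open CategoryTheory CategoryTheory.Limits

noncomputable section

namespace EtModUnbLib

universe v₁ v₂ u₁ u₂ w₁ w₂

variable {A : Type u₁} [Category.{v₁} A] [Abelian A] {B : Type u₂} [Category.{v₂} B] [Abelian B]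
  (F : A ⥤ B) [F.Additive] (P : ObjectProperty A)

/-- `F` keeps exact complexes with terms in `P` exact. -/
def Exacts : Prop :=
  ∀ K : CochainComplex A ℤ, K.Acyclic → (∀ i, P (K.X i)) →
    ((F.mapHomologicalComplex (ComplexShape.up ℤ)).obj K).Acyclic

theorem quasiIso_iff_acyclic_cone {K L : CochainComplex A ℤ} (φ : K ⟶ L) :
    QuasiIso φ ↔ (CochainComplex.mappingCone φ).Acyclic := by
  rw [← HomologicalComplex.mem_quasiIso_iff, ← HomotopyCategory.quotient_map_mem_quasiIso_iff φ,
    HomotopyCategory.quasiIso_eq_trW_subcategoryAcyclic]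
  exact ((HomotopyCategory.subcategoryAcyclic A).trW_iff_of_distinguished _
      (HomotopyCategory.mappingCone_triangleh_distinguished φ)).trans
    (HomotopyCategory.quotient_obj_mem_subcategoryAcyclic_iff_acyclic _)

variable {F P}

theorem quasiIso_map (hF : Exacts F P) (hsum : ∀ X Y, P X → P Y → P (X ⊞ Y))
    (hiso : ∀ X Y, (X ≅ Y) → P X → P Y)
    {K L : CochainComplex A ℤ} (φ : K ⟶ L) (hφ : QuasiIso φ) (hK : ∀ i, P (K.X i)) (hL : ∀ i, P (L.X i)) :
    QuasiIso ((F.mapHomologicalComplex (ComplexShape.up ℤ)).map φ) := by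
  have hc := (quasiIso_iff_acyclic_cone φ).1 hφ
  have hterms : ∀ i, P ((CochainComplex.mappingCone φ).X i) := fun i =>
    hiso _ _ (HomologicalComplex.homotopyCofiber.XIsoBiprod φ i (i + 1) rfl).symm (hsum _ _ (hK _) (hL _))
  refine (quasiIso_iff_acyclic_cone _).2 ?_
  intro n
  exact HomologicalComplex.ExactAt.of_iso (hF _ hc hterms n) (CochainComplex.mappingCone.mapHomologicalComplexIso φ F)

variable [HasDerivedCategory.{w₁} A] [HasDerivedCategory.{w₂} B] [IsGrothendieckAbelian.{v₁} A]
  (RF : DerivedCategory A ⥤ DerivedCategory B)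
  (α : F.mapHomotopyCategory (ComplexShape.up ℤ) ⋙ DerivedCategory.Qh ⟶ DerivedCategory.Qh ⋙ RF)
  [RF.IsRightDerivedFunctor α (HomotopyCategory.quasiIso A (ComplexShape.up ℤ))]

theorem isIso_unit (hF : Exacts F P) (hsum : ∀ X Y, P X → P Y → P (X ⊞ Y))
    (hiso : ∀ X Y, (X ≅ Y) → P X → P Y) (hinj : ∀ X, Injective X → P X)
    (K : CochainComplex A ℤ) (hK : ∀ i, P (K.X i)) :
    IsIso (α.app ((HomotopyCategory.quotient A (ComplexShape.up ℤ)).obj K)) := by
  obtain ⟨I, j, hI, hj, hIi⟩ := Groth.Agent.DerLib.KInjRes.exists_resolution K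
  have hjq : QuasiIso j := (HomologicalComplex.mem_quasiIso_iff _).1 hj.2
  haveI : IsIso (α.app ((HomotopyCategory.quotient A (ComplexShape.up ℤ)).obj I)) :=
    Groth.Agent.DerLib.KInjDerived.isIso_app RF α (Groth.Agent.DerLib.KInjDerived.enoughKInj A) I
  let q := (HomotopyCategory.quotient A (ComplexShape.up ℤ)).map j
  haveI : IsIso (DerivedCategory.Qh.map q) :=
    Localization.inverts DerivedCategory.Qh (HomotopyCategory.quasiIso A (ComplexShape.up ℤ)) _
      ((HomotopyCategory.quotient_map_mem_quasiIso_iff j).2 ((HomologicalComplex.mem_quasiIso_iff _).2 hjq))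
  haveI : IsIso ((F.mapHomotopyCategory (ComplexShape.up ℤ) ⋙ DerivedCategory.Qh).map q) :=
    Localization.inverts DerivedCategory.Qh (HomotopyCategory.quasiIso B (ComplexShape.up ℤ)) _
      ((HomotopyCategory.quotient_map_mem_quasiIso_iff _).2 ((HomologicalComplex.mem_quasiIso_iff _).2
        (quasiIso_map hF hsum hiso j hjq hK fun i => hinj _ (hIi i))))
  have h := α.naturality q
  haveI : IsIso ((DerivedCategory.Qh ⋙ RF).map q) := inferInstanceAs (IsIso (RF.map (DerivedCategory.Qh.map q)))
  haveI : IsIso (α.app ((HomotopyCategory.quotient A (ComplexShape.up ℤ)).obj K) ≫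
      (DerivedCategory.Qh ⋙ RF).map q) := h ▸ inferInstance
  exact IsIso.of_isIso_comp_right _ ((DerivedCategory.Qh ⋙ RF).map q)

end EtModUnbLib

end
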