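import Groth.Agent.EtModUnbLib.Exact
import Groth.Agent.EtModUnbLib.Gen
import Groth.Agent.EtModPBCLib.Acyc
import Groth.Agent.EtModPBCLib.Forget
import Groth.Agent.EtPBCProperLib.Torsion

/-!
# Sheaves of modules over a ring of positive characteristic
-/

set_option autoImplicit false
set_option linter.all false
set_option backward.isDefEq.respectTransparency false
set_option backward.isDefEq.respectTransparency.types false
set_option synthInstance.maxHeartbeats 400000
set_option maxHeartbeats 2000000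

universe u

open CategoryTheory CategoryTheory.Limits AlgebraicGeometry Opposite
open Groth.Agent Groth.Agent.EtShLib

noncomputable section

namespace EtModUnbLib

variable {Λ : Type (u + 1)} [CommRing Λ] {X S : Scheme.{u}}

theorem forget_additive (Λ : Type (u + 1)) [CommRing Λ] (X : Scheme.{u}) : (EtModD.forgetToAb Λ X).Additive := by
  haveI := EtModPBCLib.forget_pfl Λ X
  exact Functor.additive_of_preserves_binary_products _

theorem forget_faithful (Λ : Type (u + 1)) [CommRing Λ] (X : Scheme.{u}) : (EtModD.forgetToAb Λ X).Faithful :=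
  ⟨fun {M N} a b h => Sheaf.hom_ext (NatTrans.ext (funext fun U => by
    ext s
    exact congrArg (fun φ : (EtModD.forgetToAb Λ X).obj M ⟶ (EtModD.forgetToAb Λ X).obj N => φ.hom.app U s) h))⟩

theorem isTorsion_of_nsmul_id {F : EtCoh.Ab X} {n : ℕ} (hn : 0 < n) (h : n • 𝟙 F = 0) : EtCoh.IsTorsion F := by
  intro U s x
  refine ⟨U, 𝟙 U, ⟨x, rfl⟩, isOfFinAddOrder_iff_nsmul_eq_zero.2 ⟨n, hn, ?_⟩⟩
  rw [op_id, CategoryTheory.Functor.map_id]
  have h1 := congrArg (fun φ : F ⟶ F => φ.hom.app (op U) s) h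
  exact h1

theorem nsmul_id_forget {n : ℕ} (hΛ : (n : Λ) = 0) (M : EtModW.Mod Λ X) :
    n • 𝟙 ((EtModD.forgetToAb Λ X).obj M) = 0 := by
  haveI := forget_additive Λ X
  have h : n • 𝟙 M = 0 := by
    refine Sheaf.hom_ext (NatTrans.ext (funext fun U => ?_))
    ext s
    show n • (s : M.obj.obj U) = 0
    rw [← Nat.cast_smul_eq_nsmul Λ, hΛ, zero_smul]
  rw [← CategoryTheory.Functor.map_id, ← Functor.map_nsmul, h, Functor.map_zero]

theorem isTorsion_of_mono_forget {n : ℕ} (hn : 0 < n) (hΛ : (n : Λ) = 0) {F : EtCoh.Ab X} {M : EtModW.Mod Λ X}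
    (i : F ⟶ (EtModD.forgetToAb Λ X).obj M) [Mono i] : EtCoh.IsTorsion F := by
  refine isTorsion_of_nsmul_id hn ?_
  rw [← cancel_mono i, zero_comp, Preadditive.nsmul_comp, Category.id_comp]
  conv_lhs => rw [← Category.comp_id i]
  rw [← Preadditive.comp_nsmul, nsmul_id_forget hΛ M, comp_zero]

/-- Sheaves of modules whose underlying abelian sheaves have no higher direct images. -/
def acy (Λ : Type (u + 1)) [CommRing Λ] (f : X ⟶ S) : ObjectProperty (EtModW.Mod Λ X) :=
  fun M => Acy f ((EtModD.forgetToAb Λ X).obj M)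

variable (f : X ⟶ S)

theorem acy_biprod (M N : EtModW.Mod Λ X) (hM : acy Λ f M) (hN : acy Λ f N) : acy Λ f (M ⊞ N) := by
  intro q hq
  haveI := forget_additive Λ X
  haveI : (EtCoh.push f).Additive := { }
  rw [IsZero.iff_id_eq_zero]
  let G := EtModD.forgetToAb Λ X ⋙ EtCoh.Rpush f q
  show 𝟙 (G.obj (M ⊞ N)) = 0
  rw [← CategoryTheory.Functor.map_id, ← biprod.total, Functor.map_add, Functor.map_comp, Functor.map_comp,
    (hM q hq).eq_zero_of_tgt (G.map biprod.fst), (hN q hq).eq_zero_of_tgt (G.map biprod.snd), zero_comp, zero_comp,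
    add_zero]

theorem acy_iso (M N : EtModW.Mod Λ X) (e : M ≅ N) (hM : acy Λ f M) : acy Λ f N := fun q hq =>
  (hM q hq).of_iso ((EtCoh.Rpush f q).mapIso ((EtModD.forgetToAb Λ X).mapIso e)).symm

theorem acy_injective (M : EtModW.Mod Λ X) (hM : Injective M) : acy Λ f M := fun q hq =>
  EtModPBCLib.isZero_Rpush_forget Λ f M q hq

variable [IsProper f]

theorem exacts_push {n : ℕ} (hn : 0 < n) (hΛ : (n : Λ) = 0) : Exacts (EtModW.push Λ f) (acy Λ f) := by
  intro K hK hA
  haveI := EtModPBCLib.forget_pfl Λ X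
  haveI := EtModPBCLib.forget_pfc Λ X
  haveI := EtModPBCLib.forget_pfl Λ S
  haveI := EtModPBCLib.forget_pfc Λ S
  haveI := EtModPBCLib.forget_reflectsIso Λ S
  haveI := forget_additive Λ X
  haveI := forget_additive Λ S
  haveI : (EtCoh.push f).Additive := { }
  haveI := forget_faithful Λ S
  let K' := ((EtModD.forgetToAb Λ X).mapHomologicalComplex (ComplexShape.up ℤ)).obj K
  have hK' : K'.Acyclic := fun i => (hK i).map (EtModD.forgetToAb Λ X)
  have h := acyclic_push (f := f) (K := K') hK' hA fun i => isTorsion_of_mono_forget hn hΛ (K'.iCycles i)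
  intro i
  rw [HomologicalComplex.exactAt_iff]
  exact (ShortComplex.exact_map_iff_of_faithful _ (EtModD.forgetToAb Λ S)).1 (h i)

end EtModUnbLib

end
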