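import Groth.Agent.EtModUnbLib.Colim
import Groth.Agent.EtModUnbLib.Acy
import Groth.Agent.DerLib.KInjUse
import Mathlib.Algebra.Homology.HomologicalComplexLimits
import Groth.Prelude.Def_W4c6etmotetsheavesDMod

/-!
# Unbounded direct images of modules preserve sums
-/

set_option autoImplicit false
set_option linter.all false
set_option backward.isDefEq.respectTransparency false
set_option backward.isDefEq.respectTransparency.types false
set_option synthInstance.maxHeartbeats 400000
set_option maxHeartbeats 2000000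

universe u

open CategoryTheory CategoryTheory.Limits CategoryTheory.Abelian AlgebraicGeometry Opposite
open Groth.Agent Groth.Agent.EtShLib

attribute [local instance] HasDerivedCategory.standard

noncomputable section

namespace EtModUnbLib

theorem isZero_sigma_map {C D : Type*} [Category C] [Category D] [HasZeroMorphisms D] (F : C ⥤ D) {ι : Type*} (M : ι → C)
    [HasCoproduct M] [PreservesColimit (Discrete.functor M) F] (h : ∀ i, IsZero (F.obj (M i))) :
    IsZero (F.obj (∐ M)) := by
  rw [IsZero.iff_id_eq_zero]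
  exact (isColimitOfPreserves F (colimit.isColimit (Discrete.functor M))).hom_ext fun j =>
    (h j.as).eq_of_src _ _

variable {Λ : Type (u + 1)} [CommRing Λ] {X S : Scheme.{u}} (f : X ⟶ S) [IsProper f]

theorem subsingleton_ext_iff {Z : Scheme.{u}} (F : EtCoh.Ab Z) (q : ℕ) :
    Subsingleton (Ext.{u + 1} (EtCompLib.free (EtCoh.top Z)) F q) ↔ Subsingleton (EtCoh.H Z F q) := by
  obtain ⟨e⟩ := EtCompLib.nonempty_free_top_iso Z
  constructor
  · intro h
    refine subsingleton_of_forall_eq 0 fun x => ?_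
    erw [← Ext.mk₀_id_comp x, ← e.inv_hom_id, ← Ext.mk₀_comp_mk₀, Ext.comp_assoc_of_second_deg_zero,
      Subsingleton.elim ((Ext.mk₀ e.hom).comp x (zero_add q)) 0, Ext.comp_zero]
  · intro h
    haveI : Subsingleton (Ext.{u + 1} (constZ Z) F q) := h
    refine subsingleton_of_forall_eq 0 fun x => ?_
    erw [← Ext.mk₀_id_comp x, ← e.hom_inv_id, ← Ext.mk₀_comp_mk₀, Ext.comp_assoc_of_second_deg_zero,
      Subsingleton.elim ((Ext.mk₀ e.inv).comp x (zero_add q)) 0, Ext.comp_zero]

theorem forget_sums (Λ : Type (u + 1)) [CommRing Λ] (X : Scheme.{u}) (ι : Type (u + 1)) :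
    PreservesColimitsOfShape (Discrete ι) (EtModD.forgetToAb Λ X) := by
  haveI := (EpsLib.adjC Λ X.smallEtaleTopology).leftAdjoint_preservesColimits
  infer_instance

theorem acy_sigma {n : ℕ} (hn : 0 < n) (hΛ : (n : Λ) = 0) {ι : Type (u + 1)} (M : ι → EtModW.Mod Λ X)
    [HasCoproduct M] (hM : ∀ i, acy Λ f (M i)) : acy Λ f (∐ M) := by
  intro q hq
  haveI := forget_sums Λ X ι
  let F := (EtModD.forgetToAb Λ X).obj (∐ M)
  let R := (EtCoh.Rpush f q).obj F
  have hT : ∀ N : EtModW.Mod Λ X, EtCoh.IsTorsion ((EtModD.forgetToAb Λ X).obj N) := fun N =>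
    isTorsion_of_nsmul_id hn (nsmul_id_forget hΛ N)
  let Z : EtCoh.Ab S := kernel (𝟙 R)
  have hz : IsZero Z := isZero_kernel_of_mono _
  haveI : IsIso (0 : Z ⟶ R) := isIso_of_stalks _ fun Ω _ _ ξ => by
    let P := pullback f ξ
    haveI : IsProper (pullback.snd f ξ) := MorphismProperty.pullback_snd _ _ ‹_›
    haveI : CompactSpace ↥P := QuasiCompact.compactSpace_of_compactSpace (pullback.snd f ξ)
    haveI : QuasiSeparatedSpace ↥P := quasiSeparatedSpace_of_quasiSeparated (pullback.snd f ξ)
    have hP : EtCoh.top P ∈ qcqsObj P := ⟨‹_›, ‹_›⟩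
    let a : EtCoh.Ab X ⥤ EtCoh.Ab P := EtCoh.pull (pullback.fst f ξ)
    haveI : PreservesColimitsOfShape (Discrete ι) a :=
      haveI := (EtCoh.pullPushAdj (pullback.fst f ξ)).leftAdjoint_preservesColimits
      inferInstance
    haveI : (EtCoh.pull (pullback.fst f ξ)).Additive := (EtCoh.pullPushAdj (pullback.fst f ξ)).left_adjoint_additive
    haveI := EtCompLib.preservesSums_ext_free hP q ι
    have hzero : ∀ i, IsZero ((EtModD.forgetToAb Λ X ⋙ a ⋙ Abelian.extFunctorObj.{u + 1} (EtCompLib.free (EtCoh.top P)) q).obj (M i)) := by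
      intro i
      obtain ⟨e⟩ := EtPBCProperLib.nonempty_stalk_iso f ξ _ (hT (M i)) q
      haveI : Subsingleton ((EtCoh.stalk ξ).obj ((EtCoh.Rpush f q).obj ((EtModD.forgetToAb Λ X).obj (M i)))) :=
        AddCommGrpCat.subsingleton_of_isZero ((stk (A := AddCommGrpCat.{u + 1}) ξ).map_isZero (hM i q hq))
      haveI : Subsingleton (Ext.{u + 1} (EtCompLib.free (EtCoh.top P)) (a.obj ((EtModD.forgetToAb Λ X).obj (M i))) q) :=
        (subsingleton_ext_iff _ q).2 (show Subsingleton _ from e.symm.addCommGroupIsoToAddEquiv.toEquiv.subsingleton)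
      exact @AddCommGrpCat.isZero_of_subsingleton _ ‹Subsingleton (Ext.{u + 1} (EtCompLib.free (EtCoh.top P)) (a.obj ((EtModD.forgetToAb Λ X).obj (M i))) q)›
    have hS : Subsingleton (Ext.{u + 1} (EtCompLib.free (EtCoh.top P)) (a.obj F) q) :=
      AddCommGrpCat.subsingleton_of_isZero
        (isZero_sigma_map (EtModD.forgetToAb Λ X ⋙ a ⋙ Abelian.extFunctorObj.{u + 1} (EtCompLib.free (EtCoh.top P)) q) M hzero)
    obtain ⟨e⟩ := EtPBCProperLib.nonempty_stalk_iso f ξ F (hT _) q
    haveI : Subsingleton (EtCoh.H P (a.obj F) q) := (subsingleton_ext_iff _ q).1 hS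
    haveI : Subsingleton ((stk (A := AddCommGrpCat.{u + 1}) ξ).obj R) := e.addCommGroupIsoToAddEquiv.toEquiv.subsingleton
    haveI : Subsingleton ((stk (A := AddCommGrpCat.{u + 1}) ξ).obj Z) :=
      AddCommGrpCat.subsingleton_of_isZero ((stk (A := AddCommGrpCat.{u + 1}) ξ).map_isZero hz)
    exact (ConcreteCategory.isIso_iff_bijective _).2
      ⟨fun a b _ => Subsingleton.elim a b, fun b => ⟨0, Subsingleton.elim _ _⟩⟩
  exact hz.of_iso (asIso (0 : Z ⟶ R)).symm

theorem pushMod_sums (Λ : Type (u + 1)) [CommRing Λ] {X S : Scheme.{u}} (f : X ⟶ S) [QuasiCompact f] [QuasiSeparated f]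
    (ι : Type (u + 1)) : PreservesColimitsOfShape (Discrete ι) (EtModW.push Λ f) := by
  haveI := forget_sums Λ X ι
  haveI := forget_sums Λ S ι
  haveI := preservesSums_push f ι
  haveI := EtModPBCLib.forget_reflectsIso Λ S
  haveI : PreservesColimitsOfShape (Discrete ι) (EtModW.push Λ f ⋙ EtModD.forgetToAb Λ S) :=
    preservesColimitsOfShape_of_natIso (Iso.refl _ : EtModD.forgetToAb Λ X ⋙ EtCoh.push f ≅ EtModW.push Λ f ⋙ EtModD.forgetToAb Λ S)
  haveI : ReflectsColimitsOfShape (Discrete ι) (EtModD.forgetToAb Λ S) := reflectsColimitsOfShape_of_reflectsIsomorphisms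
  exact preservesColimitsOfShape_of_reflects_of_preserves (EtModW.push Λ f) (EtModD.forgetToAb Λ S)

section Q

universe v' u' w'

variable {A : Type u'} [Category.{v'} A] [Abelian A] [IsGrothendieckAbelian.{v'} A] [HasDerivedCategory.{w'} A]
  {T : Type v'} (K : T → CochainComplex A ℤ)

open Groth.Agent.DerLib.KInjUse in
theorem nonempty_isColimit_Q {c : Cofan K} (hc : IsColimit c) :
    Nonempty (IsColimit (Cofan.mk (DerivedCategory.Q.obj c.pt) fun t => DerivedCategory.Q.map (c.inj t))) := by
  suffices key : ∀ (W : DerivedCategory A) (g : ∀ t, DerivedCategory.Q.obj (K t) ⟶ W),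
      ∃! l, ∀ t, DerivedCategory.Q.map (c.inj t) ≫ l = g t from
    ⟨mkCofanColimit _ (fun s => (key s.pt s.inj).choose)
      (fun s t => (key s.pt s.inj).choose_spec.1 t)
      (fun s m hm => (key s.pt s.inj).choose_spec.2 m hm)⟩
  intro W g
  obtain ⟨I, hI, ⟨eW⟩⟩ := exists_iso_Q_kInjective W
  choose g' hg' using fun t => Q_map_surjective (K t) I (g t ≫ eW.hom)
  refine ⟨DerivedCategory.Q.map (Cofan.IsColimit.desc hc g') ≫ eW.inv, fun t => ?_, fun y hy => ?_⟩
  · show DerivedCategory.Q.map (c.inj t) ≫ _ = g t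
    rw [← Functor.map_comp_assoc, Cofan.IsColimit.fac, hg']
    simp
  · obtain ⟨y', hy'⟩ := Q_map_surjective c.pt I (y ≫ eW.hom)
    rw [← cancel_mono eW.hom, Category.assoc, Iso.inv_hom_id, Category.comp_id, ← hy', ← sub_eq_zero, ← Functor.map_sub]
    have h0 : ∀ t, (HomotopyCategory.quotient A (ComplexShape.up ℤ)).map
        (c.inj t ≫ (y' - Cofan.IsColimit.desc hc g')) = 0 := fun t => quotient_eq_zero_of_Q (by
      rw [Preadditive.comp_sub, Cofan.IsColimit.fac, Functor.map_sub, Functor.map_comp, hy', hg', sub_eq_zero,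
        ← Category.assoc, hy t])
    choose ψ hψ using fun t => exists_factor _ (h0 t)
    haveI : HasCoproduct fun t => CochainComplex.mappingCone (𝟙 (K t)) := inferInstance
    have he : y' - Cofan.IsColimit.desc hc g' =
        (Cofan.IsColimit.desc hc fun t => CochainComplex.mappingCone.inr (𝟙 (K t)) ≫
          Sigma.ι (fun t => CochainComplex.mappingCone (𝟙 (K t))) t) ≫ Sigma.desc ψ :=
      Cofan.IsColimit.hom_ext hc _ _ fun t => by
        rw [← Category.assoc, Cofan.IsColimit.fac, Category.assoc, Sigma.ι_desc, hψ]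
    rw [he, Functor.map_comp,
      (isZero_Q_obj (acyclic_sigma _ fun t => acyclic_cone_id (K t))).eq_zero_of_tgt
        (DerivedCategory.Q.map (Cofan.IsColimit.desc hc fun t => CochainComplex.mappingCone.inr (𝟙 (K t)) ≫
          Sigma.ι (fun t => CochainComplex.mappingCone (𝟙 (K t))) t)), zero_comp]

end Q

theorem preservesSums_RpushModD {n : ℕ} (hn : 0 < n) (hΛ : (n : Λ) = 0) [EtBC.HasRpushMod Λ f] (ι : Type (u + 1)) :
    PreservesColimitsOfShape (Discrete ι) (EtBC.RpushModD Λ f) := by
  refine ⟨fun {D} => ?_⟩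
  let up := ComplexShape.up ℤ
  let A := EtModW.Mod Λ X
  let P := EtModW.push Λ f
  let G := EtBC.RpushModD Λ f
  let α := (EtBC.pushModKh Λ f).totalRightDerivedUnit DerivedCategory.Qh (HomotopyCategory.quasiIso A up)
  haveI := pushMod_sums Λ f ι
  choose K hK hKi eK using fun i : ι => show ∃ (I : CochainComplex A ℤ) (_ : I.IsKInjective) (_ : ∀ m, Injective (I.X m)),
      Nonempty (DerivedCategory.Q.obj I ≅ D.obj ⟨i⟩) from by
    obtain ⟨I, j, hI, hj, hIi⟩ := DerLib.KInjRes.exists_resolution (DerivedCategory.Q.objPreimage (D.obj ⟨i⟩))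
    haveI : QuasiIso j := (HomologicalComplex.mem_quasiIso_iff _).1 hj.2
    exact ⟨I, hI, hIi, ⟨(asIso (DerivedCategory.Q.map j)).symm ≪≫ DerivedCategory.Q.objObjPreimageIso _⟩⟩
  let c : Cofan K := Cofan.mk (∐ K) (Sigma.ι K)
  have hc : IsColimit c := coproductIsCoproduct K
  obtain ⟨hQ⟩ := nonempty_isColimit_Q K hc
  have hacy : ∀ m, acy Λ f ((∐ K).X m) := fun m => by
    haveI : PreservesColimitsOfShape (Discrete ι) (HomologicalComplex.eval A up m) := inferInstance
    exact acy_iso f _ _ (PreservesCoproduct.iso (HomologicalComplex.eval A up m) K).symm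
      (acy_sigma f hn hΛ _ fun i => acy_injective f _ (hKi i m))
  haveI hu : ∀ L : CochainComplex A ℤ, (∀ m, acy Λ f (L.X m)) → IsIso (α.app ((HomotopyCategory.quotient A up).obj L)) :=
    fun L hL => isIso_unit G α (exacts_push f hn hΛ) (acy_biprod f) (acy_iso f) (acy_injective f) L hL
  let η : (P.mapHomologicalComplex up) ⋙ DerivedCategory.Q ⟶ DerivedCategory.Q ⋙ G :=
    Functor.whiskerLeft (P.mapHomologicalComplex up) (DerivedCategory.quotientCompQhIso (EtModW.Mod Λ S)).inv ≫
      Functor.whiskerLeft (HomotopyCategory.quotient A up) α ≫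
        Functor.whiskerRight (DerivedCategory.quotientCompQhIso A).hom G
  have hη : ∀ L : CochainComplex A ℤ, (∀ m, acy Λ f (L.X m)) → IsIso (η.app L) := fun L hL => by
    haveI := hu L hL
    simp only [η, NatTrans.comp_app, Functor.whiskerLeft_app, Functor.whiskerRight_app]
    infer_instance
  have hP : IsColimit (Cofan.mk ((P.mapHomologicalComplex up).obj c.pt) fun i => (P.mapHomologicalComplex up).map (c.inj i)) := by
    refine HomologicalComplex.isColimitOfEval _ _ fun m => ?_
    exact (isColimitMapCoconeCofanMkEquiv (HomologicalComplex.eval (EtModW.Mod Λ S) up m) _ _).symm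
      (isColimitMapCoconeCofanMkEquiv (HomologicalComplex.eval A up m ⋙ P) K (Sigma.ι K)
        (isColimitOfPreserves (HomologicalComplex.eval A up m ⋙ P) hc))
  obtain ⟨hQP⟩ := nonempty_isColimit_Q (fun i => (P.mapHomologicalComplex up).obj (K i)) hP
  haveI := hη c.pt hacy
  haveI : ∀ i, IsIso (η.app (K i)) := fun i => hη _ fun m => acy_injective f _ (hKi i m)
  let e : (Discrete.functor fun i => DerivedCategory.Q.obj ((P.mapHomologicalComplex up).obj (K i))) ≅
      Discrete.functor fun i => G.obj (DerivedCategory.Q.obj (K i)) :=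
    Discrete.natIso fun j => (asIso (η.app (K j.as)) :
      DerivedCategory.Q.obj ((P.mapHomologicalComplex up).obj (K j.as)) ≅ G.obj (DerivedCategory.Q.obj (K j.as)))
  let ec : DerivedCategory.Q.obj ((P.mapHomologicalComplex up).obj c.pt) ≅ G.obj (DerivedCategory.Q.obj c.pt) :=
    (asIso (η.app c.pt) :)
  have hG : IsColimit (Cofan.mk (G.obj (DerivedCategory.Q.obj c.pt)) fun i => G.map (DerivedCategory.Q.map (c.inj i))) := by
    refine IsColimit.ofIsoColimit ((IsColimit.precomposeInvEquiv e
      (Cofan.mk (DerivedCategory.Q.obj ((P.mapHomologicalComplex up).obj c.pt)) fun i =>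
        DerivedCategory.Q.map ((P.mapHomologicalComplex up).map (c.inj i)))).symm hQP) (Cocone.ext ec fun j => ?_)
    show (inv (η.app (K j.as)) ≫ DerivedCategory.Q.map ((P.mapHomologicalComplex up).map (c.inj j.as))) ≫ η.app c.pt = _
    rw [Category.assoc, IsIso.inv_comp_eq]
    exact η.naturality (c.inj j.as)
  haveI : PreservesColimit (Discrete.functor fun i => DerivedCategory.Q.obj (K i)) G :=
    preservesColimit_of_preserves_colimit_cocone hQ ((isColimitMapCoconeCofanMkEquiv _ _ _).symm hG)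
  exact preservesColimit_of_iso_diagram G (Discrete.natIso fun j => (eK j.as).some :
    (Discrete.functor fun i => DerivedCategory.Q.obj (K i)) ≅ D)

end EtModUnbLib

end
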