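import Groth.Agent.DerLib.BrownGroth
import Groth.Agent.DerLib.BrownAdjoint
import Groth.Agent.DerLib.KInjTriangulated
import Groth.Agent.DerLib.SmallDerived

/-!
# Right adjoints of derived functors preserving sums
-/

set_option autoImplicit false
set_option linter.all false
set_option backward.isDefEq.respectTransparency false
set_option backward.isDefEq.respectTransparency.types false
set_option maxHeartbeats 1000000

open CategoryTheory CategoryTheory.Limits Groth.Agent.DerLib

noncomputable section

namespace EtModUnbLib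

universe v u₁ u₂ w₁ w₂

variable {A : Type u₁} [Category.{v} A] [Abelian A] [IsGrothendieckAbelian.{v} A]
  {B : Type u₂} [Category.{v} B] [Abelian B] [IsGrothendieckAbelian.{v} B]

theorem isLeftAdjoint_small [HasDerivedCategory.{v} A] [HasDerivedCategory.{v} B] (G : A ⥤ B) [G.Additive]
    (RF : DerivedCategory A ⥤ DerivedCategory B)
    (α : G.mapHomotopyCategory (ComplexShape.up ℤ) ⋙ DerivedCategory.Qh ⟶ DerivedCategory.Qh ⋙ RF)
    [RF.IsRightDerivedFunctor α (HomotopyCategory.quasiIso A (ComplexShape.up ℤ))]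
    [∀ κ : Type v, PreservesColimitsOfShape (Discrete κ) RF] : RF.IsLeftAdjoint := by
  haveI := BrownGroth.hasCoproducts A
  obtain ⟨hc, ht⟩ := KInjDerived.exists_isTriangulated_map (KInjDerived.enoughKInj A) G RF α
  exact Brown.isLeftAdjoint (fun H _ _ => BrownGroth.isRepresentable H) RF

theorem isLeftAdjoint_derived [HasDerivedCategory.{w₁} A] [HasDerivedCategory.{w₂} B] (G : A ⥤ B) [G.Additive]
    (RF : DerivedCategory A ⥤ DerivedCategory B)
    (α : G.mapHomotopyCategory (ComplexShape.up ℤ) ⋙ DerivedCategory.Qh ⟶ DerivedCategory.Qh ⋙ RF)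
    [RF.IsRightDerivedFunctor α (HomotopyCategory.quasiIso A (ComplexShape.up ℤ))]
    [∀ κ : Type v, PreservesColimitsOfShape (Discrete κ) RF] : RF.IsLeftAdjoint := by
  let WA := HomotopyCategory.quasiIso A (ComplexShape.up ℤ)
  let WB := HomotopyCategory.quasiIso B (ComplexShape.up ℤ)
  let LA : HomotopyCategory A (ComplexShape.up ℤ) ⥤ DerivedCategory A := DerivedCategory.Qh
  let LB : HomotopyCategory B (ComplexShape.up ℤ) ⥤ DerivedCategory B := DerivedCategory.Qh
  haveI : LA.IsLocalization WA := inferInstanceAs (DerivedCategory.Qh.IsLocalization WA)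
  haveI : LB.IsLocalization WB := inferInstanceAs (DerivedCategory.Qh.IsLocalization WB)
  have hiso : ∀ (I : CochainComplex A ℤ) [I.IsKInjective],
      IsIso (α.app ((HomotopyCategory.quotient A (ComplexShape.up ℤ)).obj I)) := fun I _ =>
    KInjDerived.isIso_app RF α (KInjDerived.enoughKInj A) I
  letI := SmallDerived.hasDerivedCategorySmall A
  letI := SmallDerived.hasDerivedCategorySmall B
  let LA' : HomotopyCategory A (ComplexShape.up ℤ) ⥤ DerivedCategory A := DerivedCategory.Qh
  let LB' : HomotopyCategory B (ComplexShape.up ℤ) ⥤ DerivedCategory B := DerivedCategory.Qh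
  haveI : LA'.IsLocalization WA := inferInstanceAs (DerivedCategory.Qh.IsLocalization WA)
  haveI : LB'.IsLocalization WB := inferInstanceAs (DerivedCategory.Qh.IsLocalization WB)
  let EA := Localization.uniq LA' LA WA
  let EB := Localization.uniq LB' LB WB
  let RF' : DerivedCategory A ⥤ DerivedCategory B := EA.functor ⋙ RF ⋙ EB.inverse
  let α' : G.mapHomotopyCategory (ComplexShape.up ℤ) ⋙ DerivedCategory.Qh ⟶ DerivedCategory.Qh ⋙ RF' :=
    Functor.whiskerLeft _ (Localization.compUniqInverse LB' LB WB).inv ≫ (Functor.associator _ _ _).inv ≫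
      Functor.whiskerRight α EB.inverse ≫ (Functor.associator _ _ _).hom ≫
      Functor.whiskerRight (Localization.compUniqFunctor LA' LA WA).inv (RF ⋙ EB.inverse) ≫
      (Functor.associator _ _ _).hom
  haveI : RF'.IsRightDerivedFunctor α' WA :=
    KInjDerived.isRightDerivedFunctor_of_isIso _ _ (KInjDerived.enoughKInj A) fun I _ => by
      haveI := hiso I
      simp only [α', NatTrans.comp_app, Functor.whiskerRight_app, Functor.whiskerLeft_app]
      infer_instance
  haveI : ∀ κ : Type v, PreservesColimitsOfShape (Discrete κ) RF' := fun κ => inferInstance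
  haveI : RF'.IsLeftAdjoint := isLeftAdjoint_small G RF' α'
  let i : EA.inverse ⋙ RF' ⋙ EB.functor ≅ RF :=
    Functor.isoWhiskerLeft EA.inverse ((Functor.associator _ _ _) ≪≫ Functor.isoWhiskerLeft EA.functor
      ((Functor.associator _ _ _) ≪≫ Functor.isoWhiskerLeft RF EB.counitIso ≪≫ RF.rightUnitor)) ≪≫
      (Functor.associator _ _ _).symm ≪≫ Functor.isoWhiskerRight EA.counitIso RF ≪≫ RF.leftUnitor
  exact (((EA.symm.toAdjunction).comp ((Adjunction.ofIsLeftAdjoint RF').comp EB.toAdjunction)).ofNatIsoLeft i).isLeftAdjoint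

end EtModUnbLib

end
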