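import Groth.Agent.EtModUnbLib.Acy
import Groth.Agent.EtModPBCLib.Main
import Groth.Prelude.Def_W4c6etmotetsheavesDMod

/-!
# Proper base change for unbounded complexes of modules
-/

set_option autoImplicit false
set_option linter.all false
set_option backward.isDefEq.respectTransparency false
set_option backward.isDefEq.respectTransparency.types false
set_option synthInstance.maxHeartbeats 400000
set_option maxHeartbeats 2000000

universe u

open CategoryTheory CategoryTheory.Limits AlgebraicGeometry Opposite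
open Groth.Agent Groth.Agent.EtShLib

attribute [local instance] HasDerivedCategory.standard
attribute [local instance] EtSliceLib.pullExact

noncomputable section

namespace EtModUnbLib

variable (Λ : Type (u + 1)) [CommRing Λ] {X S X' S' : Scheme.{u}} (f : X ⟶ S) (g : S' ⟶ S) (f' : X' ⟶ S') (g' : X' ⟶ X)
  (w : g' ≫ f = f' ≫ g)

/-- The unit of the derived direct image. -/
abbrev uM {A B : Scheme.{u}} (h : A ⟶ B) [EtBC.HasRpushMod Λ h] :
    EtBC.pushModKh Λ h ⟶ DerivedCategory.Qh ⋙ EtBC.RpushModD Λ h :=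
  (EtBC.pushModKh Λ h).totalRightDerivedUnit DerivedCategory.Qh
    (HomotopyCategory.quasiIso (EtModW.Mod Λ A) (ComplexShape.up ℤ))

theorem enoughM (A : Scheme.{u}) : Groth.Agent.DerLib.KInjDerived.EnoughKInj (EtModW.Mod Λ A) :=
  Groth.Agent.DerLib.KInjDerived.enoughKInj _

theorem isIso_kappa [IsProper f] (hc : IsPullback g' f' f g) (I : CochainComplex (EtModW.Mod Λ X) ℤ) :
    IsIso (BcPlusLib.kappa (EtSix.pullPushModAdj Λ g) (EtSix.pushToPushPullMod Λ f g f' g' hc.w) I) := by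
  haveI := EtModPBCLib.forget_reflectsIso Λ S'
  haveI : ∀ m, IsIso ((BcPlusLib.kappa (EtSix.pullPushModAdj Λ g) (EtSix.pushToPushPullMod Λ f g f' g' hc.w) I).f m) := by
    intro m
    haveI := EtProperH0Lib.isIso_baseChange0 hc ((EtModD.forgetToAb Λ X).obj (I.X m))
    haveI := EtModPBCLib.isIso_alpha Λ g' (I.X m)
    haveI := EtModPBCLib.isIso_alpha Λ g ((EtModW.push Λ f).obj (I.X m))
    haveI : IsIso (EtModPBCLib.alpha Λ g ((EtModW.push Λ f).obj (I.X m)) ≫ (EtModD.forgetToAb Λ S').map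
        (((EtSix.pullPushModAdj Λ g).homEquiv _ _).symm ((EtSix.pushToPushPullMod Λ f g f' g' hc.w).app (I.X m)))) :=
      EtModPBCLib.alpha_baseChange0 Λ f g f' g' hc.w (I.X m) ▸ inferInstance
    haveI : IsIso ((EtModD.forgetToAb Λ S').map
        (((EtSix.pullPushModAdj Λ g).homEquiv _ _).symm ((EtSix.pushToPushPullMod Λ f g f' g' hc.w).app (I.X m)))) :=
      IsIso.of_isIso_comp_left (EtModPBCLib.alpha Λ g ((EtModW.push Λ f).obj (I.X m))) _
    haveI : IsIso ((EtModD.forgetToAb Λ S').map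
        ((BcPlusLib.kappa (EtSix.pullPushModAdj Λ g) (EtSix.pushToPushPullMod Λ f g f' g' hc.w) I).f m)) :=
      ‹IsIso ((EtModD.forgetToAb Λ S').map (((EtSix.pullPushModAdj Λ g).homEquiv _ _).symm
        ((EtSix.pushToPushPullMod Λ f g f' g' hc.w).app (I.X m))))›
    exact isIso_of_reflects_iso _ (EtModD.forgetToAb Λ S')
  exact HomologicalComplex.Hom.isIso_of_components _

theorem acy_pull [IsProper f] (hc : IsPullback g' f' f g) {n : ℕ} (hn : 0 < n) (hΛ : (n : Λ) = 0)
    (M : EtModW.Mod Λ X) (hM : acy Λ f M) : acy Λ f' ((EtModW.pull Λ g').obj M) := by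
  intro q hq
  let F := (EtModD.forgetToAb Λ X).obj M
  haveI := isTorsion_of_nsmul_id hn (nsmul_id_forget hΛ M)
  haveI := EtPBCProperLib.isIso_bcQ g f f' g' hc F (isTorsion_of_nsmul_id hn (nsmul_id_forget hΛ M)) q
  haveI := EtModPBCLib.isIso_alpha Λ g' M
  exact (((EtCoh.pull g).map_isZero (hM q hq)).of_iso (asIso (EtBC.bcQ f g f' g' hc.w q F)).symm).of_iso
    ((EtCoh.Rpush f' q).mapIso (asIso (EtModPBCLib.alpha Λ g' M))).symm

variable [PreservesFiniteLimits (EtModW.pull Λ g)] [PreservesFiniteLimits (EtModW.pull Λ g')]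
  [EtBC.HasRpushMod Λ f] [EtBC.HasRpushMod Λ f'] [EtBC.HasRpushMod Λ g]

/-- The canonical derived adjunction. -/
def canAdjM : EtBC.pullModD Λ g ⊣ EtBC.RpushModD Λ g :=
  Groth.Agent.DerLib.KInjDerived.derivedAdj (EtSix.pullPushModAdj Λ g) (EtBC.RpushModD Λ g) (uM Λ g) (enoughM Λ S')

abbrev kap (I : CochainComplex (EtModW.Mod Λ X) ℤ) :=
  BcPlusLib.kappa (EtSix.pullPushModAdj Λ g) (EtSix.pushToPushPullMod Λ f g f' g' w) I

/-- Base change on a complex, before deriving. -/
abbrev pH (I : CochainComplex (EtModW.Mod Λ X) ℤ) :=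
  (NatTrans.mapHomotopyCategory (EtSix.pushToPushPullMod Λ f g f' g' w) (ComplexShape.up ℤ) ≫
    (Functor.mapHomotopyCategoryCompIso (Iso.refl (EtModW.pull Λ g' ⋙ (EtModW.push Λ f' ⋙ EtModW.push Λ g)))
      (ComplexShape.up ℤ)).inv ≫ Functor.whiskerLeft ((EtModW.pull Λ g').mapHomotopyCategory (ComplexShape.up ℤ))
      (Functor.mapHomotopyCategoryCompIso (Iso.refl (EtModW.push Λ f' ⋙ EtModW.push Λ g)) (ComplexShape.up ℤ)).inv).app
    ((HomotopyCategory.quotient (EtModW.Mod Λ X) (ComplexShape.up ℤ)).obj I)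

theorem kappa_eqM (I : CochainComplex (EtModW.Mod Λ X) ℤ) :
    ((EtModW.pull Λ g).mapHomotopyCategory (ComplexShape.up ℤ)).map (pH Λ f g f' g' w I) ≫
      (Groth.Agent.DerLib.KInjDerived.mapHomotopyCategoryAdj (EtSix.pullPushModAdj Λ g) (ComplexShape.up ℤ)).counit.app
        (((EtModW.push Λ f').mapHomotopyCategory (ComplexShape.up ℤ)).obj
          (((EtModW.pull Λ g').mapHomotopyCategory (ComplexShape.up ℤ)).obj
            ((HomotopyCategory.quotient (EtModW.Mod Λ X) (ComplexShape.up ℤ)).obj I))) =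
      (HomotopyCategory.quotient (EtModW.Mod Λ S') (ComplexShape.up ℤ)).map (kap Λ f g f' g' w I) := by
  let ψ : ((EtModW.push Λ f).mapHomologicalComplex (ComplexShape.up ℤ)).obj I ⟶
      ((EtModW.push Λ g).mapHomologicalComplex _).obj (((EtModW.push Λ f').mapHomologicalComplex _).obj
        (((EtModW.pull Λ g').mapHomologicalComplex _).obj I)) :=
    { f := fun n => (EtSix.pushToPushPullMod Λ f g f' g' w).app (I.X n)
      comm' := fun i j _ => ((EtSix.pushToPushPullMod Λ f g f' g' w).naturality (I.d i j)).symm }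
  have hP : pH Λ f g f' g' w I = (HomotopyCategory.quotient (EtModW.Mod Λ S) (ComplexShape.up ℤ)).map ψ := by
    simp only [pH, NatTrans.comp_app, Functor.whiskerLeft_app]
    dsimp [Functor.mapHomotopyCategoryCompIso, NatTrans.mapHomotopyCategory]
    congr 1
  rw [hP]
  show (HomotopyCategory.quotient _ _).map (((EtModW.pull Λ g).mapHomologicalComplex _).map ψ) ≫
    (HomotopyCategory.quotient _ _).map _ = _
  rw [← Functor.map_comp]
  refine congrArg (HomotopyCategory.quotient _ _).map ?_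
  refine HomologicalComplex.hom_ext _ _ fun n => ?_
  exact (Adjunction.homEquiv_counit (EtSix.pullPushModAdj Λ g) _ _ _).symm

theorem unit_bcMapModD (I : CochainComplex (EtModW.Mod Λ X) ℤ) :
    (EtBC.pullModD Λ g).map ((uM Λ f).app ((HomotopyCategory.quotient (EtModW.Mod Λ X) (ComplexShape.up ℤ)).obj I)) ≫
        EtBC.bcMapModD Λ f g f' g' w (canAdjM Λ g) (DerivedCategory.Qh.obj ((HomotopyCategory.quotient _ _).obj I)) =
      (EtModW.pull Λ g).mapDerivedCategoryFactorsh.hom.app (((EtModW.push Λ f).mapHomotopyCategory (ComplexShape.up ℤ)).obj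
          ((HomotopyCategory.quotient (EtModW.Mod Λ X) (ComplexShape.up ℤ)).obj I)) ≫
        (DerivedCategory.Qh.map ((HomotopyCategory.quotient (EtModW.Mod Λ S') (ComplexShape.up ℤ)).map
            (kap Λ f g f' g' w I)) ≫
          (uM Λ f').app (((EtModW.pull Λ g').mapHomotopyCategory (ComplexShape.up ℤ)).obj
            ((HomotopyCategory.quotient (EtModW.Mod Λ X) (ComplexShape.up ℤ)).obj I))) ≫
        (EtBC.RpushModD Λ f').map ((EtModW.pull Λ g').mapDerivedCategoryFactorsh.inv.app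
              ((HomotopyCategory.quotient (EtModW.Mod Λ X) (ComplexShape.up ℤ)).obj I)) := by
  let qI := (HomotopyCategory.quotient (EtModW.Mod Λ X) (ComplexShape.up ℤ)).obj I
  let B := ((EtModW.pull Λ g').mapHomotopyCategory (ComplexShape.up ℤ)).obj qI
  let A := ((EtModW.push Λ f').mapHomotopyCategory (ComplexShape.up ℤ)).obj B
  let T : DerivedCategory.Qh.obj A ⟶ (EtBC.RpushModD Λ f').obj ((EtBC.pullModD Λ g').obj (DerivedCategory.Qh.obj qI)) :=
    (uM Λ f').app B ≫ (EtBC.RpushModD Λ f').map ((EtModW.pull Λ g').mapDerivedCategoryFactorsh.inv.app qI)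
  let al := (EtModW.pull Λ g).mapDerivedCategoryFactorsh.hom
  have hd : (uM Λ f).app qI ≫ (EtBC.bcAdjModD Λ f g f' g' w).app (DerivedCategory.Qh.obj qI) =
      (EtBC.bcUnitMod Λ f g f' g' w).app qI :=
    Functor.rightDerived_fac_app _ (uM Λ f) (HomotopyCategory.quasiIso (EtModW.Mod Λ X) (ComplexShape.up ℤ)) _
      (EtBC.bcUnitMod Λ f g f' g' w) qI
  have hu : (EtBC.bcUnitMod Λ f g f' g' w).app qI =
      (DerivedCategory.Qh.map (pH Λ f g f' g' w I) ≫ (uM Λ g).app A) ≫ (EtBC.RpushModD Λ g).map T := by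
    simp [EtBC.bcUnitMod, pH, T, A, B, qI, uM]
  have hε : (EtBC.pullModD Λ g).map ((uM Λ g).app A) ≫ (canAdjM Λ g).counit.app (DerivedCategory.Qh.obj A) =
      al.app (((EtModW.push Λ g).mapHomotopyCategory (ComplexShape.up ℤ)).obj A) ≫
        DerivedCategory.Qh.map
          ((Groth.Agent.DerLib.KInjDerived.mapHomotopyCategoryAdj (EtSix.pullPushModAdj Λ g)
            (ComplexShape.up ℤ)).counit.app A) :=
    haveI := Groth.Agent.DerLib.KInjDerived.isRightDerived_comp (G := EtModW.pull Λ g) (EtBC.RpushModD Λ g) (uM Λ g) (enoughM Λ S')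
    (Groth.Agent.DerLib.KInjDerived.mapHomotopyCategoryAdj (EtSix.pullPushModAdj Λ g)
      (ComplexShape.up ℤ)).derivedε_fac_app (HomotopyCategory.quasiIso (EtModW.Mod Λ S') (ComplexShape.up ℤ))
      al (uM Λ g) A
  dsimp only [EtBC.bcMapModD]
  refine (Adjunction.homEquiv_naturality_left_symm _ _ _).symm.trans ?_
  erw [hd, hu]
  erw [Adjunction.homEquiv_naturality_right_symm, Adjunction.homEquiv_counit, Functor.map_comp]
  rw [Category.assoc, Category.assoc]
  erw [reassoc_of% hε]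
  erw [reassoc_of% (al.naturality (pH Λ f g f' g' w I))]
  refine congrArg (al.app _ ≫ ·) ?_
  erw [← Functor.map_comp_assoc, kappa_eqM Λ f g f' g' w I]
  exact (Category.assoc _ _ _).symm

theorem isIso_bcMapModD [IsProper f] (hc : IsPullback g' f' f g) {n : ℕ} (hn : 0 < n) (hΛ : (n : Λ) = 0)
    (adj : EtBC.pullModD Λ g ⊣ EtBC.RpushModD Λ g) (K : EtModD.D Λ X) :
    IsIso (EtBC.bcMapModD Λ f g f' g' hc.w adj K) := by
  obtain ⟨e, he⟩ := BcPlusLib.exists_symm_eq adj (canAdjM Λ g) ((EtBC.RpushModD Λ f).obj K)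
  suffices IsIso (EtBC.bcMapModD Λ f g f' g' hc.w (canAdjM Λ g) K) by
    dsimp only [EtBC.bcMapModD] at this ⊢
    rw [he]
    infer_instance
  obtain ⟨I, j, hI, hj, hIi⟩ := Groth.Agent.DerLib.KInjRes.exists_resolution (DerivedCategory.Q.objPreimage K)
  haveI := hI
  haveI : QuasiIso j := (HomologicalComplex.mem_quasiIso_iff _).1 hj.2
  let qI := (HomotopyCategory.quotient (EtModW.Mod Λ X) (ComplexShape.up ℤ)).obj I
  let a : DerivedCategory.Qh.obj qI ≅ K := (DerivedCategory.quotientCompQhIso (EtModW.Mod Λ X)).app I ≪≫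
    (asIso (DerivedCategory.Q.map j)).symm ≪≫ DerivedCategory.Q.objObjPreimageIso K
  suffices IsIso (EtBC.bcMapModD Λ f g f' g' hc.w (canAdjM Λ g) (DerivedCategory.Qh.obj qI)) from
    ((MorphismProperty.isomorphisms _).arrow_mk_iso_iff (Arrow.isoMk
      ((EtBC.pullModD Λ g).mapIso ((EtBC.RpushModD Λ f).mapIso a))
      ((EtBC.RpushModD Λ f').mapIso ((EtBC.pullModD Λ g').mapIso a))
      (by
        show _ ≫ ((canAdjM Λ g).homEquiv _ _).symm _ = ((canAdjM Λ g).homEquiv _ _).symm _ ≫ _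
        refine ((canAdjM Λ g).homEquiv_naturality_left_symm _ _).symm.trans
          (Eq.trans ?_ ((canAdjM Λ g).homEquiv_naturality_right_symm _ _))
        exact congrArg _ ((EtBC.bcAdjModD Λ f g f' g' hc.w).naturality a.hom)))).1 this
  haveI : IsProper f' := MorphismProperty.of_isPullback hc ‹_›
  haveI : IsIso ((uM Λ f).app qI) :=
    Groth.Agent.DerLib.KInjDerived.isIso_app (EtBC.RpushModD Λ f) (uM Λ f) (enoughM Λ X) I
  haveI : IsIso ((uM Λ f').app (((EtModW.pull Λ g').mapHomotopyCategory (ComplexShape.up ℤ)).obj qI)) :=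
    isIso_unit (EtBC.RpushModD Λ f') (uM Λ f') (exacts_push f' hn hΛ) (acy_biprod f') (acy_iso f') (acy_injective f')
      (((EtModW.pull Λ g').mapHomologicalComplex (ComplexShape.up ℤ)).obj I)
      fun i => acy_pull Λ f g f' g' hc hn hΛ (I.X i) (acy_injective f (I.X i) (hIi i))
  haveI := isIso_kappa Λ f g f' g' hc I
  haveI : IsIso (kap Λ f g f' g' hc.w I) := ‹_›
  have h := unit_bcMapModD Λ f g f' g' hc.w I
  haveI : IsIso ((EtBC.pullModD Λ g).map ((uM Λ f).app qI) ≫
      EtBC.bcMapModD Λ f g f' g' hc.w (canAdjM Λ g) (DerivedCategory.Qh.obj qI)) := h ▸ inferInstance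
  exact IsIso.of_isIso_comp_left ((EtBC.pullModD Λ g).map ((uM Λ f).app qI)) _

end EtModUnbLib

end
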