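import Groth.Agent.EtCompLib.Main
import Groth.Agent.EtShLib.Generate
import Groth.Agent.FiltSectLib.Discrete

/-!
# Direct images of abelian sheaves along quasi-compact quasi-separated morphisms preserve sums
-/

set_option autoImplicit false
set_option linter.all false
set_option backward.isDefEq.respectTransparency false
set_option backward.isDefEq.respectTransparency.types false
set_option synthInstance.maxHeartbeats 400000
set_option maxHeartbeats 2000000

universe u

open CategoryTheory CategoryTheory.Limits CategoryTheory.Abelian AlgebraicGeometry Opposite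
open Groth.Agent Groth.Agent.EtShLib

noncomputable section

namespace EtModUnbLib

variable {X Y : Scheme.{u}} (f : X ⟶ Y) [QuasiCompact f] [QuasiSeparated f]
  {J : Type (u + 1)} [SmallCategory J] [IsFiltered J] (D : J ⥤ EtCoh.Ab X)

theorem bijective_post_stk {Ω : Type u} [Field Ω] [IsSepClosed Ω] (ξ : Spec (CommRingCat.of Ω) ⟶ Y) :
    Function.Bijective ((stk (A := AddCommGrpCat.{u + 1}) ξ).map (colimit.post D (EtCoh.push f))) := by
  have hc := colimit.isColimit D
  have hc' := colimit.isColimit (D ⋙ EtCoh.push f)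
  constructor
  · rw [injective_iff_map_eq_zero]
    intro q hq
    obtain ⟨i, q₀, hq₀⟩ := Concrete.isColimit_exists_rep _ (isColimitOfPreserves (stk (A := AddCommGrpCat.{u + 1}) ξ) hc') q
    obtain ⟨W, w, t, rfl⟩ := exists_germ (A := AddCommGrpCat.{u + 1}) ξ q₀
    have hι : (stk (A := AddCommGrpCat.{u + 1}) ξ).map ((EtCoh.push f).map (colimit.ι D i))
        (germ (A := AddCommGrpCat.{u + 1}) ξ _ W w t) = 0 := by
      rw [← colimit.ι_post D (EtCoh.push f) i, Functor.map_comp, ConcreteCategory.comp_apply]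
      erw [hq₀]
      exact hq
    rw [germ_natural_apply] at hι
    obtain ⟨V₁, g₁, v₁, hv₁, he₁⟩ := (germ_eq_iff ξ W w _ 0).1 (hι.trans (map_zero _).symm)
    obtain ⟨V, g₂, v, hV, hv⟩ := exists_affine_below' ξ V₁ v₁
    haveI := hV
    haveI hm := Groth.Agent.EtCompLib.bc_mem f (V := V) ⟨inferInstance, inferInstance⟩
    haveI : CompactSpace ((EtCoh.bc f).obj V).left := hm.1
    haveI : QuasiSeparatedSpace ((EtCoh.bc f).obj V).left := hm.2
    obtain ⟨k, a, ha⟩ := Groth.Agent.EtCompLib.stage_zero hc ((EtCoh.bc f).obj V)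
      (((EtCoh.push f).obj (D.obj i)).obj.map (g₂ ≫ g₁).op t) (by
      refine (NatTrans.naturality_apply ((EtCoh.push f).map (colimit.ι D i)).hom (g₂ ≫ g₁).op t).trans ?_
      rw [op_comp, Functor.map_comp, ConcreteCategory.comp_apply]
      erw [he₁]
      rw [map_zero, map_zero]
      )
    have hz : (stk (A := AddCommGrpCat.{u + 1}) ξ).map ((EtCoh.push f).map (D.map a))
        (germ (A := AddCommGrpCat.{u + 1}) ξ _ W w t) = 0 := by
      rw [germ_natural_apply, ← hv₁, ← hv, (Fib.ext (Category.assoc _ _ _) : (v.map g₂).map g₁ = v.map (g₂ ≫ g₁)), ← germ_res_apply]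
      refine (congrArg _ ?_).trans (map_zero _)
      exact (NatTrans.naturality_apply ((EtCoh.push f).map (D.map a)).hom (g₂ ≫ g₁).op t).symm.trans ha
    rw [← hq₀]
    refine Eq.trans ?_ (map_zero (ConcreteCategory.hom ((stk (A := AddCommGrpCat.{u + 1}) ξ).map (colimit.ι (D ⋙ EtCoh.push f) k))))
    rw [← hz]
    exact (ConcreteCategory.congr_hom
      (((congrArg (stk (A := AddCommGrpCat.{u + 1}) ξ).map (colimit.w (D ⋙ EtCoh.push f) a).symm)).trans
        (Functor.map_comp _ _ _)) _).trans (ConcreteCategory.comp_apply _ _ _)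
  · intro p
    obtain ⟨W, w, t, rfl⟩ := exists_germ (A := AddCommGrpCat.{u + 1}) ξ p
    obtain ⟨V, g, v, hV, rfl⟩ := exists_affine_below' ξ W w
    haveI := hV
    haveI hm := Groth.Agent.EtCompLib.bc_mem f (V := V) ⟨inferInstance, inferInstance⟩
    haveI : CompactSpace ((EtCoh.bc f).obj V).left := hm.1
    haveI : QuasiSeparatedSpace ((EtCoh.bc f).obj V).left := hm.2
    obtain ⟨k, s, hst⟩ := Groth.Agent.EtCompLib.stage_lift hc ((EtCoh.bc f).obj V)
      (((EtCoh.push f).obj _).obj.map g.op t)
    refine ⟨(stk (A := AddCommGrpCat.{u + 1}) ξ).map (colimit.ι (D ⋙ EtCoh.push f) k)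
      (germ (A := AddCommGrpCat.{u + 1}) ξ ((EtCoh.push f).obj (D.obj k)) V v s), ?_⟩
    rw [← ConcreteCategory.comp_apply, ← Functor.map_comp, colimit.ι_post]
    erw [germ_natural_apply]
    rw [← germ_res_apply]
    exact congrArg _ hst

theorem preservesSums_push (ι : Type (u + 1)) : PreservesColimitsOfShape (Discrete ι) (EtCoh.push f) := by
  classical
  haveI : PreservesLimitsOfSize.{0, 0} (EtCoh.push f) := (EtCoh.pullPushAdj f).rightAdjoint_preservesLimits
  haveI : (EtCoh.push f).Additive := { }
  haveI : PreservesFiniteCoproducts (EtCoh.push f) := inferInstance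
  haveI : PreservesColimitsOfShape (Finset (Discrete ι)) (EtCoh.push f) := ⟨fun {D} => by
    haveI : IsIso (colimit.post D (EtCoh.push f)) := isIso_of_stalks (A := AddCommGrpCat.{u + 1}) _ fun Ω _ _ ξ =>
      (ConcreteCategory.isIso_iff_bijective _).2 (bijective_post_stk f D ξ)
    exact preservesColimit_of_isIso_post (EtCoh.push f) D⟩
  exact FiltSectLib.preservesColimitsOfShape_discrete _ ι

end EtModUnbLib

end
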