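import Groth.Agent.EtPBCCdLib.Main
import Groth.Agent.HilbPolyLib.Basic
import Groth.Agent.RDerLib.LeftExact

/-!
# Exact complexes of acyclic torsion sheaves under proper direct images
-/

set_option autoImplicit false
set_option linter.all false
set_option backward.isDefEq.respectTransparency false
set_option backward.isDefEq.respectTransparency.types false
set_option synthInstance.maxHeartbeats 400000
set_option maxHeartbeats 2000000

universe u

open CategoryTheory CategoryTheory.Limits AlgebraicGeometry Opposite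
open Groth.Agent Groth.Agent.EtShLib EtPBCProperLib

attribute [local instance] EtSliceLib.pullExact

noncomputable section

namespace EtModUnbLib

variable {X S : Scheme.{u}} (f : X ⟶ S) [IsProper f]

/-- At each geometric point the higher direct images of torsion sheaves vanish in large degrees. -/
theorem exists_stalk_bound {Ω : Type u} [Field Ω] [IsSepClosed Ω] (ξ : Spec (CommRingCat.of Ω) ⟶ S) :
    ∃ N : ℕ, ∀ F : EtCoh.Ab X, EtCoh.IsTorsion F → ∀ q, N < q →
      Subsingleton ((stk (A := AddCommGrpCat.{u + 1}) ξ).obj ((EtCoh.Rpush f q).obj F)) := by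
  letI : (pullback f ξ).Over (Spec (CommRingCat.of Ω)) := ⟨pullback.snd f ξ⟩
  haveI hp : IsProper (pullback.snd f ξ) := MorphismProperty.pullback_snd _ _ ‹_›
  haveI : IsProper (pullback f ξ ↘ Spec (CommRingCat.of Ω)) := hp
  obtain ⟨D, hD⟩ := HilbPolyLib.exists_dim_lt (X := pullback f ξ) Ω
  refine ⟨2 * D, fun F hF q hq => ?_⟩
  obtain ⟨e⟩ := EtPBCProperLib.nonempty_stalk_iso f ξ F hF q
  haveI := EtPBCCdLib.cdBound D Ω (pullback f ξ) (pullback.snd f ξ) hD.le _
    (CdCurveLib.isTorsion_pull_map (pullback.fst f ξ) hF) q hq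
  exact e.addCommGroupIsoToAddEquiv.toEquiv.subsingleton

/-- A sheaf without higher direct images. -/
def Acy (F : EtCoh.Ab X) : Prop := ∀ q : ℕ, 0 < q → IsZero ((EtCoh.Rpush f q).obj F)

section

variable {f} {K : CochainComplex (EtCoh.Ab X) ℤ}

theorem cyclesSeq_shortExact' (i : ℤ) (hK : K.ExactAt (i + 1)) :
    (ShortComplex.mk (K.iCycles i) (K.toCycles i (i + 1))
      (by rw [← cancel_mono (K.iCycles (i + 1)), Category.assoc, HomologicalComplex.toCycles_i,
        HomologicalComplex.iCycles_d, zero_comp])).ShortExact := by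
  haveI : Epi (K.toCycles i (i + 1)) := by
    have h := (K.exactAt_iff' i (i + 1) (i + 1 + 1) (by simp) (by simp)).1 hK
    haveI := h.epi_toCycles
    have e : K.toCycles i (i + 1) =
        (K.sc' i (i + 1) (i + 1 + 1)).toCycles ≫ (K.cyclesIsoSc' i (i + 1) (i + 1 + 1) (by simp) (by simp)).inv := by
      rw [Iso.eq_comp_inv]
      exact HomologicalComplex.toCycles_cyclesIsoSc'_hom _ _ _ _ (by simp) (by simp)
    rw [e]
    infer_instance
  refine { exact := ShortComplex.exact_of_f_is_kernel _ ?_, mono_f := inferInstance, epi_g := inferInstance }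
  refine KernelFork.IsLimit.ofι' _ _ fun {W} k hk =>
    have h0 : k ≫ K.d i (i + 1) = 0 := by
      exact (congrArg (k ≫ ·) (K.toCycles_i i (i + 1))).symm.trans ((Category.assoc _ _ _).symm.trans
        ((congrArg (· ≫ K.iCycles (i + 1)) hk).trans zero_comp))
    ⟨K.liftCycles k (i + 1) (by simp) h0, K.liftCycles_i _ _ _ _⟩

theorem cyclesSeq_shortExact (hK : K.Acyclic) (i : ℤ) :
    (ShortComplex.mk (K.iCycles i) (K.toCycles i (i + 1))
      (by rw [← cancel_mono (K.iCycles (i + 1)), Category.assoc, HomologicalComplex.toCycles_i,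
        HomologicalComplex.iCycles_d, zero_comp])).ShortExact :=
  cyclesSeq_shortExact' i (hK (i + 1))

theorem isZero_Rpush_cycles (hK : K.Acyclic) (hA : ∀ i, Acy f (K.X i)) (hT : ∀ i, EtCoh.IsTorsion (K.cycles i))
    (i : ℤ) : IsZero ((EtCoh.Rpush f 1).obj (K.cycles i)) := by
  haveI : (EtCoh.push f).Additive := { }
  have key : ∀ (Ω : Type u) [Field Ω] [IsSepClosed Ω] (ξ : Spec (CommRingCat.of Ω) ⟶ S) (N : ℕ),
      (∀ i q, N < q → Subsingleton ((stk (A := AddCommGrpCat.{u + 1}) ξ).obj ((EtCoh.Rpush f q).obj (K.cycles i)))) →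
      ∀ m i q, 0 < q → N < q + m →
        Subsingleton ((stk (A := AddCommGrpCat.{u + 1}) ξ).obj ((EtCoh.Rpush f q).obj (K.cycles i))) := by
    intro Ω _ _ ξ N hN m
    induction m with
    | zero => exact fun i q _ h => hN i q (by omega)
    | succ m ih =>
      intro i q hq h
      obtain ⟨j, rfl⟩ : ∃ j, i = j + 1 := ⟨i - 1, by omega⟩
      have hex := ((RDerLib.derivedLES (EtCoh.push f)).exact₃ _ (cyclesSeq_shortExact hK j) q (q + 1) rfl).map
        (stk (A := AddCommGrpCat.{u + 1}) ξ)
      have h3 : IsZero ((stk (A := AddCommGrpCat.{u + 1}) ξ).obj ((EtCoh.Rpush f (q + 1)).obj (K.cycles j))) :=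
        haveI := ih j (q + 1) (by omega) (by omega)
        AddCommGrpCat.isZero_of_subsingleton _
      refine AddCommGrpCat.subsingleton_of_isZero (hex.isZero_X₂ ?_ ?_)
      · exact ((stk (A := AddCommGrpCat.{u + 1}) ξ).map_isZero (hA j q hq)).eq_of_src _ _
      · exact h3.eq_of_tgt _ _
  let Z : EtCoh.Ab S := kernel (𝟙 ((EtCoh.Rpush f 1).obj (K.cycles i)))
  have hz : IsZero Z := isZero_kernel_of_mono _
  haveI : IsIso (0 : Z ⟶ (EtCoh.Rpush f 1).obj (K.cycles i)) := isIso_of_stalks _ fun Ω _ _ ξ => by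
    obtain ⟨N, hN⟩ := exists_stalk_bound f ξ
    haveI := key Ω ξ N (fun j q hq => hN _ (hT j) q hq) N i 1 one_pos (by omega)
    haveI : Subsingleton ((stk (A := AddCommGrpCat.{u + 1}) ξ).obj Z) :=
      AddCommGrpCat.subsingleton_of_isZero ((stk (A := AddCommGrpCat.{u + 1}) ξ).map_isZero hz)
    exact (ConcreteCategory.isIso_iff_bijective _).2
      ⟨fun a b _ => Subsingleton.elim a b, fun b => ⟨0, Subsingleton.elim _ _⟩⟩
  exact hz.of_iso (asIso (0 : Z ⟶ (EtCoh.Rpush f 1).obj (K.cycles i))).symm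

/-- Proper direct images keep exact complexes of acyclic torsion sheaves exact, with no bound on the complex. -/
theorem acyclic_push (hK : K.Acyclic) (hA : ∀ i, Acy f (K.X i)) (hT : ∀ i, EtCoh.IsTorsion (K.cycles i)) :
    (((EtCoh.push f).mapHomologicalComplex (ComplexShape.up ℤ)).obj K).Acyclic := by
  haveI : PreservesLimitsOfSize.{0, 0} (EtCoh.push f) := (EtCoh.pullPushAdj f).rightAdjoint_preservesLimits
  haveI : PreservesFiniteLimits (EtCoh.push f) := PreservesLimitsOfSize.preservesFiniteLimits _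
  haveI : (EtCoh.push f).Additive := { }
  intro n
  obtain ⟨i, rfl⟩ : ∃ i, n = i + 1 := ⟨n - 1, by omega⟩
  have hi := cyclesSeq_shortExact hK i
  have hi' := cyclesSeq_shortExact hK (i + 1)
  haveI : Epi ((EtCoh.push f).map (K.toCycles i (i + 1))) := (RDerLib.epi_map_g_iff _).1
    (RDerLib.epi_map_g hi 0 (isZero_Rpush_cycles hK hA hT i))
  haveI : Epi ((EtCoh.push f).map (K.toCycles (i + 1) (i + 1 + 1))) := (RDerLib.epi_map_g_iff _).1
    (RDerLib.epi_map_g hi' 0 (isZero_Rpush_cycles hK hA hT (i + 1)))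
  have h2 := RDerLib.map_shortExact (F := EtCoh.push f) hi' ‹_›
  rw [HomologicalComplex.exactAt_iff' _ i (i + 1) (i + 1 + 1) (by simp) (by simp)]
  refine (ShortComplex.exact_iff_epi_kernel_lift _).2 ?_
  have hk : IsLimit (KernelFork.ofι ((EtCoh.push f).map (K.iCycles (i + 1)))
      (show (EtCoh.push f).map (K.iCycles (i + 1)) ≫ (EtCoh.push f).map (K.d (i + 1) (i + 1 + 1)) = 0 by
        rw [← Functor.map_comp, HomologicalComplex.iCycles_d, Functor.map_zero])) :=
    KernelFork.mapIsLimit _ (K.cyclesIsKernel (i + 1) (i + 1 + 1) (by simp)) (EtCoh.push f)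
  have e : kernel.lift _ _ (((((EtCoh.push f).mapHomologicalComplex (ComplexShape.up ℤ)).obj K).sc' i (i + 1) (i + 1 + 1)).zero) =
      (EtCoh.push f).map (K.toCycles i (i + 1)) ≫
        (hk.conePointUniqueUpToIso (limit.isLimit _)).hom := by
    rw [← cancel_mono (kernel.ι _), kernel.lift_ι, Category.assoc]
    erw [IsLimit.conePointUniqueUpToIso_hom_comp hk (limit.isLimit _) WalkingParallelPair.zero]
    exact (congrArg _ (K.toCycles_i i (i + 1))).symm.trans ((EtCoh.push f).map_comp _ _)
  rw [e]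
  infer_instance

end

end EtModUnbLib

end
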